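import Groth.Agent.H24Formal3.OpenRes
import Groth.Agent.H8FSch.AffineInd

/-!
# Modules over an open and modules on the restricted formal scheme
-/

set_option autoImplicit false
set_option linter.style.haveILetI false
set_option linter.unusedSectionVars false
set_option backward.isDefEq.respectTransparency false

universe u

open CategoryTheory CategoryTheory.Limits AlgebraicGeometry TopologicalSpace Opposite

namespace Groth.Agent.H13FSchQCoh

open H24Formal3 H24Formal3.OpenRes H24FMod

variable {𝔛 : FSch.Sys.{u}} (hX : 𝔛.IsLocNoethFormal) (U : (𝔛.X 0).Opens)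

/-- An open of the restricted space, as an open below `U`. -/
noncomputable def toOver : Opens ((𝔛.restrictOpen hX.1 U).X 0).carrier ⥤ Over U where
  obj W := Over.mk (homOfLE (Restrict.im_le hX U W) : (imU hX U).obj W ⟶ U)
  map i := Over.homMk ((imU hX U).map i) (Subsingleton.elim _ _)
  map_id _ := Over.OverMorphism.ext (Subsingleton.elim _ _)
  map_comp _ _ := Over.OverMorphism.ext (Subsingleton.elim _ _)

/-- An open below `U`, as an open of the restricted space. -/
noncomputable def ofOver : Over U ⥤ Opens ((𝔛.restrictOpen hX.1 U).X 0).carrier :=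
  Over.forget U ⋙ Opens.map (Restrict.jb hX U)

theorem toOver_ofOver (V : Over U) : (imU hX U).obj ((ofOver hX U).obj V) = V.left := by
  refine Opens.ext (Set.ext fun x => ⟨?_, fun hx => ?_⟩)
  · rintro ⟨z, hz, rfl⟩
    exact hz
  · obtain ⟨z, rfl⟩ : ∃ z, (Restrict.jb hX U) z = x :=
      ⟨⟨x, (Restrict.lvU_zero hX U).ge (V.hom.le hx)⟩, rfl⟩
    exact ⟨z, hx, rfl⟩

/-- Opens of the restricted space are the opens below `U`. -/
noncomputable def opensEquiv : Opens ((𝔛.restrictOpen hX.1 U).X 0).carrier ≌ Over U where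
  functor := toOver hX U
  inverse := ofOver hX U
  unitIso := NatIso.ofComponents (fun W => eqToIso (Restrict.preimage_im hX U W).symm)
    fun _ => Subsingleton.elim _ _
  counitIso := NatIso.ofComponents (fun V => Over.isoMk (eqToIso (toOver_ofOver hX U V)) (Subsingleton.elim _ _))
    fun _ => Over.OverMorphism.ext (Subsingleton.elim _ _)
  functor_unitIso_comp _ := Over.OverMorphism.ext (Subsingleton.elim _ _)

instance isCocontinuous_toOver : (toOver hX U).IsCocontinuous
    (Opens.grothendieckTopology ((𝔛.restrictOpen hX.1 U).X 0).carrier)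
    ((Opens.grothendieckTopology (𝔛.X 0).carrier).over U) where
  cover_lift {W S} hS := fun z hz => by
    rw [GrothendieckTopology.mem_over_iff] at hS
    obtain ⟨A, i, hi, hxA⟩ := hS ((Restrict.jb hX U) z) ⟨z, hz, rfl⟩
    rw [Sieve.overEquiv_iff] at hi
    let A' : Over U := Over.mk (i ≫ ((toOver hX U).obj W).hom)
    have hle : (ofOver hX U).obj A' ≤ W := fun y hy => (Restrict.preimage_im hX U W).le (i.le hy)
    refine ⟨(ofOver hX U).obj A', homOfLE hle, ?_, hxA⟩
    rw [Sieve.functorPullback_apply, Presieve.functorPullback_mem]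
    rw [show (toOver hX U).map (homOfLE hle) =
      (Over.homMk (homOfLE (toOver_ofOver hX U A').le) (Subsingleton.elim _ _) :
        (toOver hX U).obj ((ofOver hX U).obj A') ⟶ A') ≫ Over.homMk i from
      Over.OverMorphism.ext (Subsingleton.elim _ _)]
    exact S.downward_closed hi _

instance isCocontinuous_ofOver : (ofOver hX U).IsCocontinuous
    ((Opens.grothendieckTopology (𝔛.X 0).carrier).over U)
    (Opens.grothendieckTopology ((𝔛.restrictOpen hX.1 U).X 0).carrier) where
  cover_lift {V S} hS := by
    rw [GrothendieckTopology.mem_over_iff]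
    intro x hx
    obtain ⟨z, rfl⟩ : ∃ z, (Restrict.jb hX U) z = x :=
      ⟨⟨x, (Restrict.lvU_zero hX U).ge (V.hom.le hx)⟩, rfl⟩
    obtain ⟨B, g, hg, hzB⟩ := hS z hx
    have hle : (imU hX U).obj B ≤ V.left := by
      rintro _ ⟨y, hy, rfl⟩
      exact g.le hy
    refine ⟨(imU hX U).obj B, homOfLE hle, ?_, ⟨z, hzB, rfl⟩⟩
    rw [Sieve.overEquiv_iff, Sieve.functorPullback_apply, Presieve.functorPullback_mem]
    rw [show (ofOver hX U).map (Over.homMk (homOfLE hle) : Over.mk (homOfLE hle ≫ V.hom) ⟶ V) =
      homOfLE (Restrict.preimage_im hX U B).le ≫ g from Subsingleton.elim _ _]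
    exact S.downward_closed hg _

instance isContinuous_toOver : (toOver hX U).IsContinuous
    (Opens.grothendieckTopology ((𝔛.restrictOpen hX.1 U).X 0).carrier)
    ((Opens.grothendieckTopology (𝔛.X 0).carrier).over U) :=
  haveI : (opensEquiv hX U).symm.functor.IsCocontinuous ((Opens.grothendieckTopology (𝔛.X 0).carrier).over U)
    (Opens.grothendieckTopology ((𝔛.restrictOpen hX.1 U).X 0).carrier) := isCocontinuous_ofOver hX U
  (opensEquiv hX U).symm.toAdjunction.isContinuous_of_isCocontinuous _ _

instance isContinuous_ofOver : (ofOver hX U).IsContinuous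
    ((Opens.grothendieckTopology (𝔛.X 0).carrier).over U)
    (Opens.grothendieckTopology ((𝔛.restrictOpen hX.1 U).X 0).carrier) :=
  haveI : (opensEquiv hX U).functor.IsCocontinuous (Opens.grothendieckTopology ((𝔛.restrictOpen hX.1 U).X 0).carrier)
    ((Opens.grothendieckTopology (𝔛.X 0).carrier).over U) := isCocontinuous_toOver hX U
  (opensEquiv hX U).toAdjunction.isContinuous_of_isCocontinuous _ _


instance isContinuous_functor : (opensEquiv hX U).functor.IsContinuous
    (Opens.grothendieckTopology ((𝔛.restrictOpen hX.1 U).X 0).carrier)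
    ((Opens.grothendieckTopology (𝔛.X 0).carrier).over U) := isContinuous_toOver hX U

instance isContinuous_inverse : (opensEquiv hX U).inverse.IsContinuous
    ((Opens.grothendieckTopology (𝔛.X 0).carrier).over U)
    (Opens.grothendieckTopology ((𝔛.restrictOpen hX.1 U).X 0).carrier) := isContinuous_ofOver hX U

/-- The ring map to the sheaf below `U`. -/
noncomputable def phiOver : ModSite.ringSh ((𝔛.restrictOpen hX.1 U).Osh (Chart.isLocNoethFormal_restrictOpen hX U).1) ⟶
    ((toOver hX U).sheafPushforwardContinuous RingCat.{u}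
      (Opens.grothendieckTopology ((𝔛.restrictOpen hX.1 U).X 0).carrier)
      ((Opens.grothendieckTopology (𝔛.X 0).carrier).over U)).obj ((ModSite.ringSh (𝔛.Osh hX.1)).over U) :=
  ⟨(phi hX U).hom⟩

/-- The ring map from the sheaf below `U`, at one open. -/
noncomputable def psiOverApp (V : (Over U)ᵒᵖ) : (ModSite.ringSh (𝔛.Osh hX.1)).obj.obj (op V.unop.left) ⟶
    (ModSite.ringSh ((𝔛.restrictOpen hX.1 U).Osh (Chart.isLocNoethFormal_restrictOpen hX U).1)).obj.obj
      (op ((ofOver hX U).obj V.unop)) :=
  (ModSite.ringSh (𝔛.Osh hX.1)).obj.map (homOfLE (toOver_ofOver hX U V.unop).le).op ≫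
    (forget₂ CommRingCat.{u} RingCat.{u}).map ((psi hX U).app (op ((ofOver hX U).obj V.unop)))

/-- The ring map from the sheaf below `U`. -/
noncomputable def psiOver : (ModSite.ringSh (𝔛.Osh hX.1)).over U ⟶
    ((ofOver hX U).sheafPushforwardContinuous RingCat.{u}
      ((Opens.grothendieckTopology (𝔛.X 0).carrier).over U)
      (Opens.grothendieckTopology ((𝔛.restrictOpen hX.1 U).X 0).carrier)).obj
      (ModSite.ringSh ((𝔛.restrictOpen hX.1 U).Osh (Chart.isLocNoethFormal_restrictOpen hX U).1)) :=
  ⟨{ app := psiOverApp hX U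
     naturality := fun V V' i => by
       have h := (psi hX U).naturality ((ofOver hX U).map i.unop).op
       apply RingCat.hom_ext
       refine RingHom.ext fun a => ?_
       have h1 := congr($h ((𝔛.Osh hX.1).obj.map (homOfLE (toOver_ofOver hX U V.unop).le).op a))
       refine Eq.trans ?_ h1
       show ((psi hX U).app _).hom ((𝔛.Osh hX.1).obj.map _ ((𝔛.Osh hX.1).obj.map _ a)) =
         ((psi hX U).app _).hom ((𝔛.Osh hX.1).obj.map _ ((𝔛.Osh hX.1).obj.map _ a))
       rw [← CommRingCat.comp_apply, ← CommRingCat.comp_apply, ← Functor.map_comp, ← Functor.map_comp]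
       exact congrArg (fun z => ((psi hX U).app _).hom ((𝔛.Osh hX.1).obj.map z a)) (Subsingleton.elim _ _) }⟩

/-- Modules over `U` are modules on the restricted formal scheme. -/
noncomputable def modEquiv : SheafOfModules.{u} ((ModSite.ringSh (𝔛.Osh hX.1)).over U) ≌
    SheafOfModules.{u} (ModSite.ringSh ((𝔛.restrictOpen hX.1 U).Osh (Chart.isLocNoethFormal_restrictOpen hX U).1)) := by
  refine SheafOfModules.pushforwardPushforwardEquivalence (eqv := opensEquiv hX U) (phiOver hX U) (psiOver hX U) ?_ ?_
  · refine NatTrans.ext (funext fun V => RingCat.hom_ext (RingHom.ext fun a => ?_))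
    refine Eq.trans ?_ (phi_psi hX U _ _).symm
    exact congrArg (fun z => (𝔛.Osh hX.1).obj.map z a) (Subsingleton.elim _ _)
  · refine NatTrans.ext (funext fun W => RingCat.hom_ext (RingHom.ext fun c => ?_))
    show ((𝔛.restrictOpen hX.1 U).Osh (Chart.isLocNoethFormal_restrictOpen hX U).1).obj.map
      (homOfLE (Restrict.preimage_im hX U W.unop).ge).op
      (((psi hX U).app (op ((ofOver hX U).obj ((toOver hX U).obj W.unop)))).hom
        ((𝔛.Osh hX.1).obj.map (homOfLE (toOver_ofOver hX U ((toOver hX U).obj W.unop)).le).op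
          (((phi hX U).hom.app W).hom c))) = c
    have h := congr($((psi hX U).naturality (homOfLE (Restrict.preimage_im hX U W.unop).ge).op)
      ((𝔛.Osh hX.1).obj.map (homOfLE (toOver_ofOver hX U ((toOver hX U).obj W.unop)).le).op
          (((phi hX U).hom.app W).hom c)))
    refine h.symm.trans (Eq.trans ?_ (psi_phi hX U W.unop c))
    refine congrArg ((psi hX U).app W).hom ?_
    show (𝔛.Osh hX.1).obj.map ((imU hX U).map (homOfLE (Restrict.preimage_im hX U W.unop).ge)).op
      ((𝔛.Osh hX.1).obj.map _ (((phi hX U).hom.app W).hom c)) = ((phi hX U).hom.app W).hom c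
    rw [← CommRingCat.comp_apply, ← Functor.map_comp]
    exact (congrArg (fun z => (𝔛.Osh hX.1).obj.map z (((phi hX U).hom.app W).hom c))
      (Subsingleton.elim _ (𝟙 _))).trans (congr($((𝔛.Osh hX.1).obj.map_id _) _))

/-- The equivalence carries restriction to `U` to the restricted module. -/
noncomputable def modEquivResF (M : FSch.ModF 𝔛 hX.1) :
    (modEquiv hX U).functor.obj (M.over U) ≅ (resF hX U).obj M := Iso.refl _

theorem isIso_phiOver : IsIso (phiOver hX U) := by
  haveI := isIso_psi hX U
  haveI : IsIso ((sheafToPresheaf _ _).map (phiOver hX U)) :=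
    inferInstanceAs (IsIso (Functor.whiskerRight (inv (psi hX U)) (forget₂ CommRingCat.{u} RingCat.{u})))
  exact isIso_of_reflects_iso _ (sheafToPresheaf _ _)

/-- The equivalence preserves the unit. -/
noncomputable def modEquivUnit :
    SheafOfModules.unit (ModSite.ringSh ((𝔛.restrictOpen hX.1 U).Osh (Chart.isLocNoethFormal_restrictOpen hX U).1)) ≅
      (modEquiv hX U).functor.obj (SheafOfModules.unit ((ModSite.ringSh (𝔛.Osh hX.1)).over U)) := by
  haveI : IsIso (SheafOfModules.unitToPushforwardObjUnit (phiOver hX U)) := by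
    haveI := isIso_psi hX U
    rw [← isIso_iff_of_reflects_iso _ (SheafOfModules.toSheaf.{u} _),
      ← isIso_iff_of_reflects_iso _ (sheafToPresheaf _ _)]
    haveI : ∀ W, IsIso ((((sheafToPresheaf _ _).map ((SheafOfModules.toSheaf.{u} _).map
        (SheafOfModules.unitToPushforwardObjUnit (phiOver hX U))))).app W) := fun W =>
      inferInstanceAs (IsIso ((forget₂ RingCat AddCommGrpCat).map
        ((forget₂ CommRingCat.{u} RingCat.{u}).map ((inv (psi hX U)).app W))))
    exact NatIso.isIso_of_isIso_app _
  exact asIso (SheafOfModules.unitToPushforwardObjUnit (phiOver hX U))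

/-- The inverse equivalence preserves the unit. -/
noncomputable def modEquivInvUnit :
    SheafOfModules.unit ((ModSite.ringSh (𝔛.Osh hX.1)).over U) ≅ (modEquiv hX U).inverse.obj (SheafOfModules.unit
      (ModSite.ringSh ((𝔛.restrictOpen hX.1 U).Osh (Chart.isLocNoethFormal_restrictOpen hX U).1))) :=
  (modEquiv hX U).unitIso.app _ ≪≫ (modEquiv hX U).inverse.mapIso (modEquivUnit hX U).symm

end Groth.Agent.H13FSchQCoh
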