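import Groth.Agent.H13FSchQCoh.Main
import Groth.Agent.H15Site.HomTensor.Main
import Mathlib.CategoryTheory.ObjectProperty.FiniteProducts

/-!
# The internal Hom from a coherent module on a formal scheme
-/

set_option autoImplicit false
set_option linter.style.haveILetI false
set_option linter.unusedSectionVars false
set_option backward.isDefEq.respectTransparency false

universe w v u

open CategoryTheory CategoryTheory.Limits AlgebraicGeometry TopologicalSpace Opposite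

namespace Groth.Agent.H13FSchQCoh

open H24Formal3 H24Formal3.OpenRes H24FMod H15Site.ModTensor H15Site.ModRel H15Site.LocGen H15Site.LocFP H15Site.LocPres

attribute [local instance 10000] H15Site.SiteInst.hasSheafifySite H15Site.SiteInst.hasWeakSheafifySite

variable {𝔛 : FSch.Sys.{u}} (hL : 𝔛.IsLocNoethFormal)

/-- A class closed under isomorphisms, sums and containing zero has finite products. -/
theorem isClosedUnderFiniteProducts_of_biprod {A : Type w} [Category.{v} A] [Abelian A] (P : ObjectProperty A)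
    [P.IsClosedUnderIsomorphisms] (h0 : ∃ Z, IsZero Z ∧ P Z) (hb : ∀ X Y, P X → P Y → P (X ⊞ Y)) :
    P.IsClosedUnderFiniteProducts := by
  haveI : P.ContainsZero := ⟨h0⟩
  haveI : P.IsClosedUnderBinaryProducts :=
    { limitsOfShape_le := by
        rintro X ⟨p⟩
        refine P.prop_of_iso ?_ (hb _ _ (p.prop_diag_obj (.mk .left)) (p.prop_diag_obj (.mk .right)))
        exact biprod.isoProd _ _ ≪≫ IsLimit.conePointUniqueUpToIso (prodIsProd _ _)
          ((IsLimit.postcomposeHomEquiv (diagramIsoPair p.diag) _).2 p.isLimit) }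
  exact .mk'

theorem closedFiniteProducts_ind :
    (ObjectProperty.ind.{u} (H8FSch.Coh 𝔛 hL.1)).IsClosedUnderFiniteProducts := by
  obtain ⟨Z, hZ, hZ'⟩ := H8FSch.exists_coh_zero 𝔛 hL.1
  exact isClosedUnderFiniteProducts_of_biprod _ ⟨Z, hZ, (H8FSch.Coh 𝔛 hL.1).le_ind _ hZ'⟩
    fun X Y => H8FSch.prop_biprod hL

theorem closedFiniteProducts_coh : (H8FSch.Coh 𝔛 hL.1).IsClosedUnderFiniteProducts :=
  isClosedUnderFiniteProducts_of_biprod _ (H8FSch.exists_coh_zero 𝔛 hL.1) (H8FSch.coh_biprod 𝔛 hL.1)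

/-- A joint kernel of endomorphisms of an ind-coherent module is ind-coherent, and coherent if the module is. -/
theorem prop_of_jk {I K : Type u} [Fintype I] [Fintype K] {X Y : FSch.ModF 𝔛 hL.1} {e : I → (X ⟶ Y)}
    {r : K → I → (Y ⟶ Y)} (h : H15Site.HomTensor.JK e r)
    (hY : ObjectProperty.ind.{u} (H8FSch.Coh 𝔛 hL.1) Y) :
    ObjectProperty.ind.{u} (H8FSch.Coh 𝔛 hL.1) X ∧ (FSch.IsCohF 𝔛 hL.1 Y → FSch.IsCohF 𝔛 hL.1 X) := by
  let L : X ⟶ ∏ᶜ fun _ : I => Y := Pi.lift e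
  let M : (∏ᶜ fun _ : I => Y) ⟶ ∏ᶜ fun _ : K => Y := Pi.lift fun k => ∑ i, Pi.π (fun _ : I => Y) i ≫ r k i
  have hLM : L ≫ M = 0 := Pi.hom_ext _ _ fun k => by
    simp only [L, M, Category.assoc, Pi.lift_π, Preadditive.comp_sum, Pi.lift_π_assoc, zero_comp, h.zero]
  have hgk : ∀ {V : FSch.ModF 𝔛 hL.1} (g : V ⟶ ∏ᶜ fun _ : I => Y), g ≫ M = 0 →
      ∀ k, ∑ i, (g ≫ Pi.π (fun _ : I => Y) i) ≫ r k i = 0 := fun {V} g hg k => by
    have := congrArg (· ≫ Pi.π (fun _ : K => Y) k) hg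
    simp only [M, Category.assoc, Pi.lift_π, Preadditive.comp_sum, zero_comp] at this
    simpa only [Category.assoc] using this
  have hk : IsLimit (KernelFork.ofι L hLM) := by
    refine KernelFork.IsLimit.ofι L hLM
      (fun {V} g hg => (h.existsUnique (fun i => g ≫ Pi.π _ i) (hgk g hg)).choose)
      (fun {V} g hg => ?_) (fun {V} g hg m hm => ?_)
    · exact Pi.hom_ext _ _ fun i => by
        rw [Category.assoc, Pi.lift_π]
        exact (h.existsUnique (fun i => g ≫ Pi.π _ i) (hgk g hg)).choose_spec.1 i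
    · exact (h.existsUnique (fun i => g ≫ Pi.π _ i) (hgk g hg)).choose_spec.2 m fun i => by
        rw [← hm, Category.assoc, Pi.lift_π]
  haveI := closedFiniteProducts_ind hL
  haveI := closedFiniteProducts_coh hL
  have hX : ObjectProperty.ind.{u} (H8FSch.Coh 𝔛 hL.1) X :=
    (ObjectProperty.ind.{u} (H8FSch.Coh 𝔛 hL.1)).prop_of_iso
      ((limit.isLimit _).conePointUniqueUpToIso hk)
      (H8FSch.prop_kernel hL (ObjectProperty.prop_product _ fun _ => hY) (ObjectProperty.prop_product _ fun _ => hY) M)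
  refine ⟨hX, fun hYc => ?_⟩
  haveI : SheafOfModules.IsQuasicoherent.{u} X := by
    obtain ⟨Λ, _, _, pres, hp⟩ := hX
    exact H8FSch.isQuasicoherent_colim hL pres.isColimit hp
  haveI : Mono L := mono_of_isLimit_fork hk
  exact H14QCohFP.isCohF_of_mono hL (ObjectProperty.prop_product (H8FSch.Coh 𝔛 hL.1) fun _ => hYc) L

/-- Near every point the restriction of the internal Hom is a joint kernel. -/
theorem exists_jk (F G : FSch.ModF 𝔛 hL.1) (hF : FSch.IsCohF 𝔛 hL.1 F) [SheafOfModules.IsQuasicoherent.{u} G]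
    [ModSite.HasSheafHom F] (x : 𝔛.X 0) :
    ∃ U : (𝔛.X 0).Opens, x ∈ U ∧ IsAffineOpen U ∧ IndOn hL U ((ModSite.sheafHom F).obj G) ∧
      (FSch.IsCohF 𝔛 hL.1 G →
        FSch.IsCohF _ (Chart.isLocNoethFormal_restrictOpen hL U).1 ((resF hL U).obj ((ModSite.sheafHom F).obj G))) := by
  haveI : SheafOfModules.IsFinitePresentation (R := ModSite.ringSh (𝔛.Osh hL.1)) F := hF
  obtain ⟨S, hS, hS'⟩ := lh_fp (F := F) (⊤ : (𝔛.X 0).Opens)
  obtain ⟨W, g, hg, hxW⟩ := hS x trivial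
  obtain ⟨V, hxV, hVW, hV⟩ := exists_indOn hL G x hxW
  obtain ⟨U, hU, hxU, hUV⟩ := exists_isAffineOpen_mem_and_subset hxV
  obtain ⟨I, K, _, _, s, r, hs, hr⟩ := FP.res (homOfLE (show U ≤ W from fun y hy => hVW (hUV hy))) (hS' g hg)
  let T : ModSite.Mod ((𝔛.Osh hL.1).over U) ⥤
      FSch.ModF (𝔛.restrictOpen hL.1 U) (Chart.isLocNoethFormal_restrictOpen hL U).1 := (modEquiv hL U).functor
  haveI : T.IsEquivalence := inferInstanceAs ((modEquiv hL U).functor.IsEquivalence)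
  haveI : T.Additive := Functor.additive_of_preserves_binary_products T
  have h := (H15Site.HomTensor.jk_ε hs hr G).map T
  obtain ⟨h1, h2⟩ := prop_of_jk (Chart.isLocNoethFormal_restrictOpen hL U) h (hV U hU hUV)
  exact ⟨U, hxU, hU, h1, fun hG => h2 (isCohF_resF hL U G hG)⟩

/-- The statement. -/
theorem isQuasicoherent_sheafHom (F G : FSch.ModF 𝔛 hL.1) (hF : FSch.IsCohF 𝔛 hL.1 F)
    [SheafOfModules.IsQuasicoherent.{u} G] [ModSite.HasSheafHom F] :
    SheafOfModules.IsQuasicoherent.{u} ((ModSite.sheafHom F).obj G) ∧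
      (FSch.IsCohF 𝔛 hL.1 G → FSch.IsCohF 𝔛 hL.1 ((ModSite.sheafHom F).obj G)) := by
  refine ⟨isQuasicoherent_of_indOn hL _ fun x => (exists_jk hL F G hF x).imp fun U h => ⟨h.1, h.2.1, h.2.2.1⟩,
    fun hG => isFinitePresentation_of_lh (fun Y => ?_)⟩
  choose U hxU _ _ hc using exists_jk hL F G hF
  choose S hS hS' using fun x => lh_fp_le hL (U x) _ (hc x hG)
  refine ⟨⟨fun W f => ∃ (x : 𝔛.X 0) (W' : (𝔛.X 0).Opens) (g : W' ⟶ U x), S x g ∧ W ≤ W', ?_⟩, ?_, ?_⟩
  · rintro W W₂ f ⟨x, W', g, hg, hW⟩ k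
    exact ⟨x, W', g, hg, (leOfHom k).trans hW⟩
  · intro y hy
    obtain ⟨W', g, hg, hyW⟩ := hS y y (hxU y)
    exact ⟨Y ⊓ W', homOfLE inf_le_left, ⟨y, W', g, hg, inf_le_right⟩, hy, hyW⟩
  · rintro W f ⟨x, W', g, hg, hW⟩
    exact FP.res (homOfLE hW) (hS' x g hg)

end Groth.Agent.H13FSchQCoh
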