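import Groth.Agent.H13FSchQCoh.Bridge
import Groth.Agent.H8FSch.IndFive
import Mathlib.CategoryTheory.Abelian.Exact

/-!
# Quasi-coherent modules on a formal scheme are locally ind-coherent
-/

set_option autoImplicit false
set_option linter.style.haveILetI false
set_option linter.unusedSectionVars false
set_option backward.isDefEq.respectTransparency false

universe u

open CategoryTheory CategoryTheory.Limits AlgebraicGeometry TopologicalSpace Opposite

namespace Groth.Agent.H13FSchQCoh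

open H24Formal3 H24Formal3.OpenRes H24FMod

attribute [local instance 10000] H15Site.SiteInst.hasSheafifySite H15Site.SiteInst.hasWeakSheafifySite

variable {𝔛 : FSch.Sys.{u}} (hX : 𝔛.IsLocNoethFormal)

/-- Ind-coherence of the restriction to an open. -/
def IndOn (U : (𝔛.X 0).Opens) (M : FSch.ModF 𝔛 hX.1) : Prop :=
  ObjectProperty.ind.{u} (H8FSch.Coh _ (Chart.isLocNoethFormal_restrictOpen hX U).1) ((resF hX U).obj M)

variable {U : (𝔛.X 0).Opens}

theorem isAffineOpen_top_restrict (hU : IsAffineOpen U) :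
    IsAffineOpen (⊤ : ((𝔛.restrictOpen hX.1 U).X 0).Opens) := by
  have : IsAffine (𝔛.lvU hX.1 0 U).toScheme := (Restrict.lvU_zero hX U).symm ▸ hU
  exact @isAffineOpen_top _ this

theorem compactSpace_restrict (hU : IsAffineOpen U) : CompactSpace ((𝔛.restrictOpen hX.1 U).X 0) :=
  ⟨(isAffineOpen_top_restrict hX hU).isCompact⟩

/-- A presentation over a larger open restricts. -/
noncomputable def presentationRestrict {V : (𝔛.X 0).Opens} (f : U ⟶ V) {M : FSch.ModF 𝔛 hX.1}
    (P : (M.over V).Presentation) : (M.over U).Presentation := by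
  haveI : IsIso (𝟙 ((ModSite.ringSh (𝔛.Osh hX.1)).over U)) := inferInstance
  let F : SheafOfModules.{u} ((ModSite.ringSh (𝔛.Osh hX.1)).over V) ⥤
      SheafOfModules.{u} ((ModSite.ringSh (𝔛.Osh hX.1)).over U) :=
    SheafOfModules.pushforward (F := Over.map f) (R := (ModSite.ringSh (𝔛.Osh hX.1)).over V)
      (𝟙 ((ModSite.ringSh (𝔛.Osh hX.1)).over U))
  haveI : F.IsLeftAdjoint := inferInstance
  exact P.map F (Iso.refl _)

/-- A presentation over an affine open makes the restricted module ind-coherent. -/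
theorem indOn_of_presentation (hU : IsAffineOpen U) {M : FSch.ModF 𝔛 hX.1} (P : (M.over U).Presentation) :
    IndOn hX U M := by
  let Q := P.map (modEquiv hX U).functor (modEquivUnit hX U)
  refine (H8FSch.ind_iff_exists_cokernel_free (Chart.isLocNoethFormal_restrictOpen hX U) (isAffineOpen_top_restrict hX hU) _).2 ⟨_, _, _,
    ⟨(cokernelIsCokernel _).coconePointUniqueUpToIso Q.isColimit⟩⟩

/-- An ind-coherent restriction to an affine open has a presentation over the open. -/
theorem nonempty_presentation_of_indOn (hU : IsAffineOpen U) {M : FSch.ModF 𝔛 hX.1} (h : IndOn hX U M) :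
    Nonempty (M.over U).Presentation := by
  obtain ⟨α, β, φ, ⟨e⟩⟩ := (H8FSch.ind_iff_exists_cokernel_free (Chart.isLocNoethFormal_restrictOpen hX U) (isAffineOpen_top_restrict hX hU) _).1 h
  let P₀ : SheafOfModules.Presentation (cokernel φ) :=
    SheafOfModules.presentationOfIsCokernelFree φ (cokernel.π φ) (cokernel.condition φ) (cokernelIsCokernel φ)
  exact ⟨((P₀.ofIsIso (e ≪≫ (modEquivResF hX U M).symm).hom).map (modEquiv hX U).inverse
    (modEquivInvUnit hX U)).ofIsIso ((modEquiv hX U).unitIso.app (M.over U)).inv⟩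

/-- A quasi-coherent module is ind-coherent on the affine opens of a basis. -/
theorem exists_indOn (M : FSch.ModF 𝔛 hX.1) [hM : SheafOfModules.IsQuasicoherent.{u} M] (x : 𝔛.X 0)
    {W : (𝔛.X 0).Opens} (hx : x ∈ W) :
    ∃ V : (𝔛.X 0).Opens, x ∈ V ∧ V ≤ W ∧ ∀ U : (𝔛.X 0).Opens, IsAffineOpen U → U ≤ V → IndOn hX U M := by
  obtain ⟨q⟩ := hM.nonempty_quasicoherentData
  have hcov := (Opens.coversTop_iff _ _).1 q.coversTop
  obtain ⟨i, hi⟩ := Opens.mem_iSup.1 (hcov ▸ trivial : x ∈ ⨆ i, q.X i)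
  exact ⟨q.X i ⊓ W, ⟨hi, hx⟩, inf_le_right, fun U hU hUV => indOn_of_presentation hX hU
    (presentationRestrict hX (homOfLE (hUV.trans inf_le_left)) (q.presentation i))⟩

/-- A module which is ind-coherent on a cover by affine opens is quasi-coherent. -/
theorem isQuasicoherent_of_indOn (M : FSch.ModF 𝔛 hX.1)
    (h : ∀ x : 𝔛.X 0, ∃ U : (𝔛.X 0).Opens, x ∈ U ∧ IsAffineOpen U ∧ IndOn hX U M) :
    SheafOfModules.IsQuasicoherent.{u} M := by
  choose U hxU hU hM using h
  let Q : SheafOfModules.QuasicoherentData.{u} (R := ModSite.ringSh (𝔛.Osh hX.1)) M :=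
    { I := 𝔛.X 0
      X := U
      coversTop := (Opens.coversTop_iff _ _).2 (eq_top_iff.2 fun x _ => Opens.mem_iSup.2 ⟨x, hxU x⟩)
      presentation := fun x => (nonempty_presentation_of_indOn hX (hU x) (hM x)).some }
  exact Q.isQuasicoherent

/-- Two quasi-coherent modules are ind-coherent on a common cover. -/
theorem exists_common (M N : FSch.ModF 𝔛 hX.1) [SheafOfModules.IsQuasicoherent.{u} M]
    [SheafOfModules.IsQuasicoherent.{u} N] (x : 𝔛.X 0) {W : (𝔛.X 0).Opens} (hx : x ∈ W) :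
    ∃ V : (𝔛.X 0).Opens, x ∈ V ∧ V ≤ W ∧ ∀ U : (𝔛.X 0).Opens, IsAffineOpen U → U ≤ V →
      IndOn hX U M ∧ IndOn hX U N := by
  obtain ⟨V₁, h₁, hW, hM⟩ := exists_indOn hX M x hx
  obtain ⟨V₂, h₂, hV, hN⟩ := exists_indOn hX N x h₁
  exact ⟨V₂, h₂, hV.trans hW, fun U hU hUV => ⟨hM U hU (hUV.trans hV), hN U hU hUV⟩⟩

/-- Kernels, images and cokernels. -/
theorem isQuasicoherent_kernel_image_cokernel {M N : FSch.ModF 𝔛 hX.1} [SheafOfModules.IsQuasicoherent.{u} M]
    [SheafOfModules.IsQuasicoherent.{u} N] (φ : M ⟶ N) :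
    SheafOfModules.IsQuasicoherent.{u} (kernel φ) ∧ SheafOfModules.IsQuasicoherent.{u} (Abelian.image φ) ∧
      SheafOfModules.IsQuasicoherent.{u} (cokernel φ) := by
  have key : ∀ x : 𝔛.X 0, ∃ U : (𝔛.X 0).Opens, x ∈ U ∧ IsAffineOpen U ∧
      IndOn hX U (kernel φ) ∧ IndOn hX U (Abelian.image φ) ∧ IndOn hX U (cokernel φ) := fun x => by
    obtain ⟨V, hxV, -, hV⟩ := exists_common hX M N x (W := ⊤) trivial
    obtain ⟨U, hU, hxU, hUV⟩ := exists_isAffineOpen_mem_and_subset hxV
    obtain ⟨hM, hN⟩ := hV U hU hUV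
    haveI := preservesFiniteLimits_resF hX U
    haveI := preservesFiniteColimits_resF hX U
    haveI := additive_resF hX U
    have hL := Chart.isLocNoethFormal_restrictOpen hX U
    have hk := fun {A B : FSch.ModF 𝔛 hX.1} (g : A ⟶ B) (hA : IndOn hX U A) (hB : IndOn hX U B) =>
      (ObjectProperty.ind.{u} (H8FSch.Coh _ hL.1)).prop_of_iso (PreservesKernel.iso (resF hX U) g).symm
        (H8FSch.prop_kernel hL hA hB ((resF hX U).map g))
    have hc : IndOn hX U (cokernel φ) :=
      (ObjectProperty.ind.{u} (H8FSch.Coh _ hL.1)).prop_of_iso (PreservesCokernel.iso (resF hX U) φ).symm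
        (H8FSch.prop_cokernel hL hM hN ((resF hX U).map φ))
    exact ⟨U, hxU, hU, hk φ hM hN, hk (cokernel.π φ) hN hc, hc⟩
  exact ⟨isQuasicoherent_of_indOn hX _ fun x => (key x).imp fun U h => ⟨h.1, h.2.1, h.2.2.1⟩,
    isQuasicoherent_of_indOn hX _ fun x => (key x).imp fun U h => ⟨h.1, h.2.1, h.2.2.2.1⟩,
    isQuasicoherent_of_indOn hX _ fun x => (key x).imp fun U h => ⟨h.1, h.2.1, h.2.2.2.2⟩⟩

theorem exact_map {C D : Type*} [Category C] [Category D] [Abelian C] [Abelian D] {n : ℕ} {S : ComposableArrows C n}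
    (hS : S.Exact) (F : C ⥤ D) [F.Additive] [PreservesFiniteLimits F] [PreservesFiniteColimits F] :
    ((F.mapComposableArrows n).obj S).Exact :=
  { zero := fun i hi => (F.map_comp _ _).symm.trans ((congrArg F.map (hS.toIsComplex.zero i hi)).trans (F.map_zero _ _))
    exact := fun i hi => (hS.exact i hi).map F }

/-- The five lemma. -/
theorem isQuasicoherent_of_exact_five (S : ComposableArrows (FSch.ModF 𝔛 hX.1) 4) (hS : S.Exact)
    (h₀ : SheafOfModules.IsQuasicoherent.{u} (S.obj 0)) (h₁ : SheafOfModules.IsQuasicoherent.{u} (S.obj 1))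
    (h₃ : SheafOfModules.IsQuasicoherent.{u} (S.obj 3)) (h₄ : SheafOfModules.IsQuasicoherent.{u} (S.obj 4)) :
    SheafOfModules.IsQuasicoherent.{u} (S.obj 2) := by
  refine isQuasicoherent_of_indOn hX _ fun x => ?_
  obtain ⟨V₁, hx₁, -, hV₁⟩ := exists_common hX (S.obj 0) (S.obj 1) x (W := ⊤) trivial
  obtain ⟨V, hxV, hVV, hV⟩ := exists_common hX (S.obj 3) (S.obj 4) x hx₁
  obtain ⟨U, hU, hxU, hUV⟩ := exists_isAffineOpen_mem_and_subset hxV
  obtain ⟨i₀, i₁⟩ := hV₁ U hU (le_trans hUV hVV)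
  obtain ⟨i₃, i₄⟩ := hV U hU hUV
  haveI := preservesFiniteLimits_resF hX U
  haveI := preservesFiniteColimits_resF hX U
  haveI := additive_resF hX U
  haveI := compactSpace_restrict hX hU
  exact ⟨U, hxU, hU, H8FSch.prop_of_exact_five (Chart.isLocNoethFormal_restrictOpen hX U)
    ((resF hX U).mapComposableArrows 4 |>.obj S) (exact_map hS (resF hX U)) i₀ i₁ i₃ i₄⟩

end Groth.Agent.H13FSchQCoh
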